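import Groth.Agent.L11.SmoothLift.Affine
import Groth.Agent.L14.Unob.DimOne

/-! # Smooth schemes of dimension at most one lift along nilpotent thickenings of an affine base -/

set_option autoImplicit false
set_option linter.style.haveILetI false
set_option backward.isDefEq.respectTransparency.types false
set_option backward.isDefEq.respectTransparency false

universe u

open CategoryTheory CategoryTheory.Limits AlgebraicGeometry TopologicalSpace

noncomputable section

namespace Groth.L11.SmoothLift

theorem exists_lift_curve {R R₀ : CommRingCat.{u}} (ρ : R ⟶ R₀) (hρ : Function.Surjective ρ)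
    (hn : IsNilpotent (RingHom.ker ρ.hom)) {Y : Scheme.{u}} (fY : Y ⟶ Spec R₀) [Smooth fY] [IsNoetherian Y]
    (hdim : topologicalKrullDim Y ≤ 1) :
    ∃ (T : Scheme.{u}) (f : T ⟶ Spec R) (c : Y ⟶ T), Smooth f ∧ IsPullback c fY f (Spec.map ρ) := by
  classical
  haveI : IsClosedImmersion (Spec.map ρ) := IsClosedImmersion.spec_of_surjective ρ hρ
  haveI : Surjective (Spec.map ρ) := surjective_specMap ρ hn hρ
  have hN : ∀ z : Y, ∃ W : Y.Opens, IsAffineOpen W ∧ z ∈ W := fun z => by
    obtain ⟨W, hW, hz, -⟩ := exists_isAffineOpen_mem_and_subset (x := z) (U := ⊤) trivial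
    exact ⟨W, hW, hz⟩
  choose W hW hzW using hN
  obtain ⟨t, ht⟩ := IsCompact.elim_finite_subcover isCompact_univ (fun z => (W z : Set Y))
    (fun z => (W z).2) (fun z _ => Set.mem_iUnion.2 ⟨z, hzW z⟩)
  have key : ∀ s : Finset Y, Nonempty (Lift fY (Spec.map ρ) (s.sup W)) := by
    intro s
    induction s using Finset.induction_on with
    | empty => exact exists_lift_affine ρ hρ fY (by rw [Finset.sup_empty]; exact isAffineOpen_bot Y)
    | insert z s hz ih =>
      rw [Finset.sup_insert]
      obtain ⟨L₂⟩ := ih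
      obtain ⟨L₁⟩ := exists_lift_affine ρ hρ fY (hW z)
      have haff : IsAffineOpen (W z ⊓ s.sup W) := by
        haveI : IsAffine (W z).toScheme := hW z
        haveI : IsNoetherian (W z).toScheme := {}
        have h := Groth.L14.Unob.isAffineOpen_of_dim_one (X := (W z).toScheme)
          (((W z).ι.isOpenEmbedding.isInducing.topologicalKrullDim_le).trans hdim) ((W z).ι ⁻¹ᵁ s.sup W)
        have h' := h.image_of_isOpenImmersion (W z).ι
        rwa [Scheme.Hom.image_preimage_eq_opensRange_inf, Scheme.Opens.opensRange_ι] at h'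
      exact exists_glue L₁ L₂ (same_of_affine ρ hρ fY hn haff _ _)
  have htop : t.sup W = ⊤ := top_le_iff.1 fun y _ => by
    obtain ⟨z, hzt, hy⟩ := Set.mem_iUnion₂.1 (ht (Set.mem_univ y))
    exact Finset.le_sup (f := W) hzt hy
  obtain ⟨L⟩ := key t
  rw [htop] at L
  exact ⟨L.T, L.f, Y.topIso.inv ≫ L.c, L.smooth,
    L.isPb.of_iso Y.topIso (Iso.refl _) (Iso.refl _) (Iso.refl _) (by simp) (by simp) (by simp) (by simp)⟩

end Groth.L11.SmoothLift
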