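import Groth.Agent.L11.SmoothLift.Curve
import Groth.Agent.L12.LineLift.System

/-! # The formal lifting of a smooth curve over a complete local ring -/

set_option autoImplicit false
set_option linter.style.haveILetI false
set_option backward.isDefEq.respectTransparency.types false
set_option backward.isDefEq.respectTransparency false

universe u

open CategoryTheory CategoryTheory.Limits AlgebraicGeometry TopologicalSpace

noncomputable section

namespace Groth.L11.SmoothLift

variable {A : Type u} [CommRing A] [IsNoetherianRing A] (J : Ideal A)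

/-- A level of the tower. -/
structure Level (n : ℕ) where
  /-- the scheme -/
  X : Scheme.{u}
  /-- the structure map -/
  f : X ⟶ Spec (CommRingCat.of (A ⧸ J ^ (n + 1)))
  smooth : Smooth f
  compact : CompactSpace X
  dim : topologicalKrullDim X ≤ 1

theorem exists_next (n : ℕ) (L : Level J n) :
    ∃ (L' : Level J (n + 1)) (t : L.X ⟶ L'.X), IsPullback t L.f L'.f (CohB1.specQuotTrans J n) := by
  obtain ⟨X, f, hf, hc, hd⟩ := L
  haveI : IsLocallyNoetherian X := LocallyOfFiniteType.isLocallyNoetherian f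
  haveI : IsNoetherian X := {}
  let ρ : CommRingCat.of (A ⧸ J ^ (n + 1 + 1)) ⟶ CommRingCat.of (A ⧸ J ^ (n + 1)) :=
    CommRingCat.ofHom (Ideal.Quotient.factor (Ideal.pow_le_pow_right (Nat.le_succ (n + 1))))
  have hρ : Function.Surjective ρ :=
    Ideal.Quotient.factor_surjective (Ideal.pow_le_pow_right (Nat.le_succ (n + 1)))
  have hn : IsNilpotent (RingHom.ker ρ.hom) := by
    refine ⟨n + 1 + 1, eq_bot_iff.2 ?_⟩
    refine le_trans (Ideal.pow_right_mono ?_ _)
      (le_of_eq (a := (J.map (Ideal.Quotient.mk (J ^ (n + 1 + 1)))) ^ (n + 1 + 1)) ?_)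
    · intro x hx
      obtain ⟨a, rfl⟩ := Ideal.Quotient.mk_surjective x
      have ha : a ∈ J ^ (n + 1) := Ideal.Quotient.eq_zero_iff_mem.1 hx
      exact Ideal.mem_map_of_mem _ (Ideal.pow_le_self (Nat.succ_ne_zero n) ha)
    · rw [← Ideal.map_pow, Ideal.map_quotient_self]
  obtain ⟨T, g, c, hg, hpb⟩ := exists_lift_curve ρ hρ hn f hd
  haveI : IsClosedImmersion (Spec.map ρ) := IsClosedImmersion.spec_of_surjective ρ hρ
  haveI := surjective_specMap ρ hn hρ
  haveI : IsClosedImmersion c := MorphismProperty.of_isPullback (P := @IsClosedImmersion.{u}) hpb.flip inferInstance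
  have hs : Function.Surjective c :=
    (MorphismProperty.of_isPullback (P := @Surjective.{u}) hpb.flip inferInstance).surj
  let h := (c.isEmbedding).toHomeomorphOfSurjective hs
  exact ⟨⟨T, g, hg, hs.compactSpace c.continuous, (h.symm.isInducing.topologicalKrullDim_le).trans hd⟩, c, hpb⟩

theorem exists_tower (L₀ : Level J 0) :
    ∃ (Xs : ℕ → Scheme.{u}) (fs : ∀ n : ℕ, Xs n ⟶ Spec (CommRingCat.of (A ⧸ J ^ (n + 1))))
      (ts : ∀ n : ℕ, Xs n ⟶ Xs (n + 1)), (∀ n, Smooth (fs n)) ∧
      (∀ n, IsPullback (ts n) (fs n) (fs (n + 1)) (CohB1.specQuotTrans J n)) ∧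
      ∃ e : Xs 0 ≅ L₀.X, e.hom ≫ L₀.f = fs 0 := by
  choose nxt t ht using exists_next J
  let Ls : ∀ n, Level J n := fun n => n.rec L₀ fun k L => nxt k L
  exact ⟨fun n => (Ls n).X, fun n => (Ls n).f, fun n => t n (Ls n), fun n => (Ls n).smooth, fun n => ht n (Ls n),
    Iso.refl _, Category.id_comp _⟩

end Groth.L11.SmoothLift
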